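import Mathlib

/-!
The sign sum `Σ ψ (Q v)` of a quadratic form over a finite field of characteristic two, `ψ` the character
with kernel `{y² + y}`.  It separates the two classes of forms with a given polar form.
-/
set_option autoImplicit false

namespace Cfsg.Agent.Lib.CharTwoQuad

variable {F : Type*} [Field F] [Fintype F] [CharP F 2]

/-- `y ↦ y² + y` -/
def artinMap (F : Type*) [Field F] [CharP F 2] : F →+ F where
  toFun y := y ^ 2 + y
  map_zero' := by simp
  map_add' x y := by rw [CharTwo.add_sq]; abel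

/-- the sign character -/
noncomputable def sgn (c : F) : ℤ :=
  open Classical in if c ∈ (artinMap F).range then 1 else -1

lemma index_artinMap : (artinMap F).range.index = 2 := by
  classical
  have hk : Nat.card (artinMap F).ker = 2 := by
    rw [Nat.card_eq_two_iff]
    refine ⟨⟨0, by simp⟩, ⟨1, by simp [artinMap, CharTwo.add_self_eq_zero]⟩,
      fun h => zero_ne_one (α := F) (congrArg Subtype.val h), ?_⟩
    refine Set.eq_univ_of_forall fun ⟨x, hx⟩ => ?_
    have h : x * (x + 1) = 0 := by
      rw [AddMonoidHom.mem_ker] at hx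
      simpa [artinMap, mul_add, pow_two] using hx
    rcases mul_eq_zero.1 h with h | h
    · exact Or.inl (Subtype.ext h)
    · exact Or.inr (Subtype.ext (CharTwo.add_eq_zero.1 h))
  have h1 := AddSubgroup.card_mul_index (artinMap F).ker
  rw [AddSubgroup.index_ker, hk] at h1
  have h2 := AddSubgroup.card_mul_index (artinMap F).range
  have hpos : 0 < Nat.card (artinMap F).range := Nat.card_pos
  nlinarith

lemma sgn_zero : sgn (0 : F) = 1 := by simp [sgn]

lemma sgn_cases (c : F) : sgn c = 1 ∨ sgn c = -1 := by unfold sgn; split_ifs <;> simp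

lemma sgn_eq_one_iff {c : F} : sgn c = 1 ↔ ∃ y : F, y ^ 2 + y = c := by
  unfold sgn
  split_ifs with h
  · exact iff_of_true rfl h
  · exact iff_of_false (by decide) h

lemma sgn_mul_self (c : F) : sgn c * sgn c = 1 := by rcases sgn_cases c with h | h <;> simp [h]

lemma sgn_add (a b : F) : sgn (a + b) = sgn a * sgn b := by
  have h := AddSubgroup.add_mem_iff_of_index_two (index_artinMap (F := F)) (a := a) (b := b)
  unfold sgn
  split_ifs <;> simp_all

lemma sgn_sq (a : F) : sgn (a ^ 2) = sgn a := by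
  have h : sgn (a ^ 2 + a) = 1 := sgn_eq_one_iff.2 ⟨a, rfl⟩
  rw [sgn_add] at h
  rcases sgn_cases a with e | e <;> rw [e] at h ⊢ <;> linarith

lemma exists_sgn_neg : ∃ c : F, sgn c = -1 := by
  by_contra h
  push Not at h
  have htop : (artinMap F).range = ⊤ := eq_top_iff.2 fun c _ => by
    obtain ⟨y, hy⟩ := sgn_eq_one_iff.1 ((sgn_cases c).resolve_right (h c))
    exact ⟨y, hy⟩
  simpa [htop] using index_artinMap (F := F)

lemma exists_sgn_sq_mul {c : F} (hc : c ≠ 0) : ∃ t : F, sgn (t ^ 2 * c) = -1 := by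
  obtain ⟨d, hd⟩ := exists_sgn_neg (F := F)
  obtain ⟨t, ht⟩ := surjective_frobenius F 2 (d / c)
  exact ⟨t, by rw [← frobenius_def, ht, div_mul_cancel₀ _ hc, hd]⟩

lemma sum_sgn_mul_sq [DecidableEq F] (c : F) :
    ∑ t : F, sgn (t ^ 2 * c) = if c = 0 then (Fintype.card F : ℤ) else 0 := by
  split_ifs with h
  · simp [h, sgn_zero]
  · obtain ⟨t₀, ht₀⟩ := exists_sgn_sq_mul h
    have key : ∑ t : F, sgn (t ^ 2 * c) = ∑ t : F, sgn ((t + t₀) ^ 2 * c) :=
      (Equiv.sum_comp (Equiv.addRight t₀) fun t => sgn (t ^ 2 * c)).symm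
    simp only [CharTwo.add_sq, add_mul, sgn_add, ht₀, mul_neg, mul_one, Finset.sum_neg_distrib] at key
    linarith

variable {V : Type*} [AddCommGroup V] [Module F V]

/-- `Q` is a quadratic map with polar form `f` -/
structure QF (f : LinearMap.BilinForm F V) (Q : V → F) : Prop where
  smul : ∀ (c : F) (v : V), Q (c • v) = c ^ 2 * Q v
  add : ∀ u v : V, Q (u + v) = Q u + Q v + f u v

variable {f : LinearMap.BilinForm F V} {Q Q' : V → F}

omit [Fintype F] [CharP F 2] in
lemma QF.zero (hQ : QF f Q) : Q 0 = 0 := by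
  simpa using hQ.smul 0 0

omit [Fintype F] in
lemma QF.alt (hQ : QF f Q) (v : V) : f v v = 0 := by
  have h := hQ.add v v
  have h2 : v + v = 0 := by
    rw [← two_smul F v, CharTwo.two_eq_zero, zero_smul]
  rw [h2, hQ.zero, CharTwo.add_self_eq_zero, zero_add] at h
  exact h.symm

omit [Fintype F] [CharP F 2] in
lemma QF.symm (hQ : QF f Q) (u v : V) : f u v = f v u := by
  have h1 := hQ.add u v
  have h2 := hQ.add v u
  rw [add_comm v u, h1] at h2
  linear_combination h2

omit [Fintype F] in
lemma QF.shift (hQ : QF f Q) (u : V) : QF f (fun v => Q v + f u v ^ 2) where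
  smul c v := by simp [hQ.smul, map_smul]; ring
  add v w := by simp only [hQ.add, map_add, CharTwo.add_sq]; ring

omit [Fintype F] [CharP F 2] in
lemma QF.comp (hQ : QF f Q) (g : V ≃ₗ[F] V) (hg : ∀ u v, f (g u) (g v) = f u v) : QF f (fun v => Q (g v)) where
  smul c v := by simp [hQ.smul]
  add v w := by simp [hQ.add, hg]

/-- the sum of the signs of the values -/
noncomputable def sgnSum [Fintype V] (Q : V → F) : ℤ := ∑ v, sgn (Q v)

variable [Fintype V]

omit [AddCommGroup V] [Module F V] in
lemma sgnSum_comp (Q : V → F) (g : V ≃ V) : sgnSum (fun v => Q (g v)) = sgnSum Q :=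
  Equiv.sum_comp g fun v => sgn (Q v)

lemma sum_sgn_linear (φ : V →ₗ[F] F) (hφ : φ ≠ 0) : ∑ v, sgn (φ v) = 0 := by
  obtain ⟨c, hc⟩ := exists_sgn_neg (F := F)
  obtain ⟨v₁, hv₁⟩ : ∃ v, φ v ≠ 0 := by
    by_contra h
    push Not at h
    exact hφ (LinearMap.ext h)
  set v₀ := (c / φ v₁) • v₁
  have hv₀ : φ v₀ = c := by simp [v₀, div_mul_cancel₀ _ hv₁]
  have key : ∑ v, sgn (φ v) = ∑ v, sgn (φ (v + v₀)) := (Equiv.sum_comp (Equiv.addRight v₀) fun v => sgn (φ v)).symm
  simp only [map_add, sgn_add, hv₀, hc, mul_neg, mul_one, Finset.sum_neg_distrib] at key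
  linarith

lemma sgnSum_shift (hQ : QF f Q) (u : V) : sgnSum (fun v => Q v + f u v ^ 2) = sgn (Q u) * sgnSum Q := by
  unfold sgnSum
  rw [Finset.mul_sum, ← Equiv.sum_comp (Equiv.addRight u) (fun v => sgn (Q u) * sgn (Q v))]
  refine Finset.sum_congr rfl fun v _ => ?_
  rw [Equiv.coe_addRight, hQ.add, sgn_add, sgn_add, sgn_add, sgn_sq, hQ.symm v u]
  linear_combination (-(sgn (Q v) * sgn (f u v))) * sgn_mul_self (Q u)

lemma sgnSum_sq (hQ : QF f Q) (hf : ∀ v, (∀ u, f u v = 0) → v = 0) : sgnSum Q * sgnSum Q = Fintype.card V := by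
  classical
  have h : ∀ t : V, ∑ v, sgn (Q v) * sgn (Q (v + t)) = if t = 0 then (Fintype.card V : ℤ) else 0 := by
    intro t
    have h1 : ∀ v, sgn (Q v) * sgn (Q (v + t)) = sgn (Q t) * sgn (f.flip t v) := fun v => by
      rw [hQ.add, sgn_add, sgn_add, show (f.flip t) v = f v t from rfl]
      linear_combination (sgn (Q t) * sgn (f v t)) * sgn_mul_self (Q v)
    simp only [h1, ← Finset.mul_sum]
    split_ifs with ht
    · simp [ht, hQ.zero, sgn_zero]
    · rw [sum_sgn_linear _ fun h0 => ht (hf t fun u => LinearMap.congr_fun h0 u), mul_zero]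
  unfold sgnSum
  rw [Finset.sum_mul_sum]
  calc ∑ v, ∑ w, sgn (Q v) * sgn (Q w) = ∑ v, ∑ t, sgn (Q v) * sgn (Q (v + t)) :=
        Finset.sum_congr rfl fun v _ => (Equiv.sum_comp (Equiv.addLeft v) fun w => sgn (Q v) * sgn (Q w)).symm
    _ = ∑ t, ∑ v, sgn (Q v) * sgn (Q (v + t)) := Finset.sum_comm
    _ = _ := by simp [h]

lemma sgnSum_ne_zero (hQ : QF f Q) (hf : ∀ v, (∀ u, f u v = 0) → v = 0) : sgnSum Q ≠ 0 := by
  intro h
  have := sgnSum_sq hQ hf
  rw [h, mul_zero] at this
  exact_mod_cast (Fintype.card_pos (α := V)).ne' (by exact_mod_cast this.symm)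

/-- two forms with the same polar differ by the square of a linear form -/
theorem exists_shift [FiniteDimensional F V] (hQ : QF f Q) (hQ' : QF f Q') (hf : ∀ v, (∀ u, f u v = 0) → v = 0) :
    ∃ u, ∀ v, Q' v = Q v + f u v ^ 2 := by
  let e := frobeniusEquiv F 2
  let ℓ : V →ₗ[F] F :=
    { toFun := fun v => e.symm (Q' v + Q v)
      map_add' := fun v w => by
        rw [← map_add]
        congr 1
        rw [hQ.add, hQ'.add]
        have h := CharTwo.add_self_eq_zero (f v w)
        linear_combination h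
      map_smul' := fun c v => by
        rw [hQ.smul, hQ'.smul, ← mul_add, map_mul, RingHom.id_apply, smul_eq_mul]
        congr 1
        rw [RingEquiv.symm_apply_eq, frobeniusEquiv_apply, frobenius_def] }
  have hinj : Function.Injective f := (injective_iff_map_eq_zero f).2 fun u hu => hf u fun w => by
    rw [hQ.symm]; exact LinearMap.congr_fun hu w
  obtain ⟨u, hu⟩ := (LinearMap.injective_iff_surjective_of_finrank_eq_finrank
    (Subspace.dual_finrank_eq (K := F) (V := V)).symm).1 hinj ℓ
  refine ⟨u, fun v => ?_⟩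
  have h : (e.symm (Q' v + Q v)) ^ 2 = Q' v + Q v := by
    have := e.apply_symm_apply (Q' v + Q v)
    rwa [frobeniusEquiv_apply, frobenius_def] at this
  rw [hu]
  show Q' v = Q v + (e.symm (Q' v + Q v)) ^ 2
  rw [h]
  linear_combination -(CharTwo.add_self_eq_zero (Q v))

/-- forms of the same sign are isometric by an isometry of the polar form -/
theorem exists_isometry [FiniteDimensional F V] (hQ : QF f Q) (hQ' : QF f Q')
    (hf : ∀ v, (∀ u, f u v = 0) → v = 0) (hs : sgnSum Q' = sgnSum Q) :
    ∃ g : V ≃ₗ[F] V, (∀ u v, f (g u) (g v) = f u v) ∧ ∀ v, Q (g v) = Q' v := by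
  obtain ⟨u, hu⟩ := exists_shift hQ hQ' hf
  have h1 : sgn (Q u) = 1 := by
    have h := sgnSum_shift hQ u
    rw [← show Q' = fun v => Q v + f u v ^ 2 from funext hu, hs] at h
    exact (mul_eq_right₀ (sgnSum_ne_zero hQ hf)).1 h.symm
  obtain ⟨y, hy⟩ := sgn_eq_one_iff.1 h1
  obtain ⟨s, hs'⟩ : ∃ s : F, s ^ 2 * Q u + s = 1 := by
    by_cases hc : Q u = 0
    · exact ⟨1, by simp [hc]⟩
    · refine ⟨y / Q u, ?_⟩
      field_simp
      linear_combination hy
  let T : V →ₗ[F] V := LinearMap.id + (s • f u).smulRight u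
  have hT : ∀ v, T v = v + (s * f u v) • u := fun v => by simp [T]
  have hTT : ∀ v, T (T v) = v := fun v => by
    rw [hT (T v), hT v, map_add, map_smul, smul_eq_mul, hQ.alt u, mul_zero, add_zero, add_assoc, ← add_smul,
      CharTwo.add_self_eq_zero, zero_smul, add_zero]
  refine ⟨LinearEquiv.ofLinearMap T T (LinearMap.ext hTT) (LinearMap.ext hTT), fun v w => ?_, fun v => ?_⟩
  · show f (T v) (T w) = f v w
    rw [hT, hT]
    simp only [map_add, map_smul, LinearMap.add_apply, LinearMap.smul_apply, hQ.alt u, smul_eq_mul, hQ.symm v u]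
    linear_combination (s * f u v * f u w) * CharTwo.two_eq_zero (R := F)
  · show Q (T v) = Q' v
    rw [hT, hQ.add, hQ.smul, map_smul, smul_eq_mul, hQ.symm v u, hu]
    linear_combination (f u v ^ 2) * hs'

/-- a totally singular half makes the sum positive -/
theorem sgnSum_of_totallySingular [FiniteDimensional F V] (hQ : QF f Q) (hf : ∀ v, (∀ u, f u v = 0) → v = 0)
    (W : Submodule F V) (hW : ∀ w ∈ W, Q w = 0) (hdim : 2 * Module.finrank F W = Module.finrank F V) :
    0 < sgnSum Q := by
  classical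
  haveI : Fintype W := Fintype.ofFinite W
  let φ : V →ₗ[F] Module.Dual F W := W.subtype.dualMap ∘ₗ f
  have hφ : ∀ v (w : W), φ v w = f v w := fun v w => rfl
  have hWK : W ≤ LinearMap.ker φ := fun a ha => LinearMap.ext fun b => by
    rw [hφ]
    have h := hQ.add a b
    rw [hW a ha, hW b b.2, hW (a + b) (add_mem ha b.2)] at h
    simpa using h.symm
  have hsurj : LinearMap.range φ = ⊤ := by
    have hinj : Function.Injective f := (injective_iff_map_eq_zero f).2 fun u hu => hf u fun w => by
      rw [hQ.symm]; exact LinearMap.congr_fun hu w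
    have hs := (LinearMap.injective_iff_surjective_of_finrank_eq_finrank
      (Subspace.dual_finrank_eq (K := F) (V := V)).symm).1 hinj
    exact LinearMap.range_eq_top.2 ((LinearMap.dualMap_surjective_of_injective W.injective_subtype).comp hs)
  have hker : LinearMap.ker φ = W := by
    refine (Submodule.eq_of_le_of_finrank_le hWK ?_).symm
    have h := φ.finrank_range_add_finrank_ker
    rw [hsurj, finrank_top, Subspace.dual_finrank_eq] at h
    omega
  have key : sgnSum Q * (Fintype.card W : ℤ) = (Fintype.card W : ℤ) * Fintype.card W := by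
    have h1 : ∀ w : W, sgnSum Q = ∑ v, sgn (Q v) * sgn (f v w) := fun w => by
      rw [sgnSum, ← Equiv.sum_comp (Equiv.addRight (w : V)) fun v => sgn (Q v)]
      refine Finset.sum_congr rfl fun v _ => ?_
      rw [Equiv.coe_addRight, hQ.add, hW w w.2, add_zero, sgn_add]
    have h2 : sgnSum Q * (Fintype.card W : ℤ) = ∑ v, ∑ w : W, sgn (Q v) * sgn (φ v w) := by
      rw [Finset.sum_comm, mul_comm]
      simp only [hφ, ← h1, Finset.sum_const, Finset.card_univ, nsmul_eq_mul]
    rw [h2]
    have h3 : ∀ v, ∑ w : W, sgn (Q v) * sgn (φ v w) = if v ∈ W then (Fintype.card W : ℤ) else 0 := fun v => by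
      rw [← Finset.mul_sum]
      split_ifs with hv
      · rw [hW v hv, sgn_zero, one_mul, show φ v = 0 from (hker.symm ▸ hv : v ∈ LinearMap.ker φ)]
        simp [sgn_zero]
      · rw [sum_sgn_linear _ (fun h0 => hv (hker ▸ LinearMap.mem_ker.2 h0)), mul_zero]
    simp only [h3]
    rw [← Finset.sum_filter, Finset.sum_const, nsmul_eq_mul, Fintype.card_subtype]
  have hW0 : (0 : ℤ) < Fintype.card W := by exact_mod_cast Fintype.card_pos
  rw [mul_right_cancel₀ hW0.ne' key]
  exact hW0

/-- the sum through the number of zeros -/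
theorem sgnSum_zeros [DecidableEq F] (hQ : QF f Q) :
    ((Fintype.card F : ℤ) - 1) * sgnSum Q =
      (Fintype.card F : ℤ) * (Finset.univ.filter fun v => Q v = 0).card - Fintype.card V := by
  classical
  have h1 : ∀ t : F, ∑ v, sgn (t ^ 2 * Q v) = if t = 0 then (Fintype.card V : ℤ) else sgnSum Q := by
    intro t
    split_ifs with ht
    · simp [ht, sgn_zero]
    · unfold sgnSum
      simp only [← hQ.smul]
      exact Equiv.sum_comp (LinearEquiv.smulOfUnit (Units.mk0 t ht)).toEquiv fun v => sgn (Q v)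
  have h2 : ∑ t : F, ∑ v, sgn (t ^ 2 * Q v) = (Fintype.card V : ℤ) + ((Fintype.card F : ℤ) - 1) * sgnSum Q := by
    simp only [h1, Finset.sum_ite, Finset.sum_const, Finset.filter_eq', Finset.mem_univ, if_true,
      Finset.card_singleton, one_smul, Finset.filter_ne', Finset.card_erase_of_mem, Finset.card_univ, nsmul_eq_mul]
    rw [Nat.cast_sub (Fintype.card_pos), Nat.cast_one]
  rw [Finset.sum_comm] at h2
  simp only [sum_sgn_mul_sq, ← Finset.sum_filter, Finset.sum_const, nsmul_eq_mul] at h2
  linear_combination -h2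

omit [CharP F 2] [Module F V] in
/-- counting points of a given sign -/
theorem two_mul_card_sgn_one [CharP F 2] (Q : V → F) :
    (2 : ℤ) * (Finset.univ.filter fun v => sgn (Q v) = 1).card = Fintype.card V + sgnSum Q := by
  classical
  have h : ∀ v, sgn (Q v) + 1 = if sgn (Q v) = 1 then 2 else 0 := fun v => by
    rcases sgn_cases (Q v) with e | e <;> simp [e]
  have h' : ∑ v, (sgn (Q v) + 1) = sgnSum Q + Fintype.card V := by
    rw [Finset.sum_add_distrib]; simp [sgnSum]
  simp only [h, ← Finset.sum_filter, Finset.sum_const, nsmul_eq_mul] at h'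
  linear_combination h'

/-- a fixed-point-free isometry of prime order `r` forces the sum to be `1` modulo `r` -/
theorem dvd_sgnSum_sub_one (hQ : QF f Q) {r : ℕ} [Fact r.Prime] (e : V ≃ₗ[F] V) (he : e ^ r = 1)
    (hfix : ∀ v, e v = v → v = 0) (hinv : ∀ v, Q (e v) = Q v) : (r : ℤ) ∣ sgnSum Q - 1 := by
  classical
  let A := {v : V // sgn (Q v) = 1}
  let h : Function.End A := fun v => ⟨e v.1, by rw [hinv]; exact v.2⟩
  have hk : ∀ (k : ℕ) (v : A), ((h ^ k : Function.End A) v).1 = (e ^ k) v.1 := by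
    intro k
    induction k with
    | zero => intro v; simp [Function.End.one_def]
    | succ k ih =>
      intro v
      rw [pow_succ h, pow_succ e, LinearEquiv.mul_apply]
      exact ih (h v)
  have hh : h ^ r ^ 1 = 1 := funext fun v => Subtype.ext (by rw [hk, pow_one, he]; rfl)
  have h1 := Equiv.Perm.card_fixedPoints_modEq hh
  have hfx : Fintype.card h.fixedPoints = 1 := by
    rw [Fintype.card_eq_one_iff]
    refine ⟨⟨⟨0, by rw [hQ.zero, sgn_zero]⟩, Subtype.ext (map_zero e)⟩, fun v => Subtype.ext (Subtype.ext ?_)⟩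
    exact hfix _ (congrArg Subtype.val v.2)
  rw [hfx, Fintype.card_subtype] at h1
  -- the whole space
  let g : Function.End V := fun v => e v
  have hg : g ^ r ^ 1 = 1 := by
    have hgk : ∀ k : ℕ, (g ^ k : Function.End V) = fun v => (e ^ k) v := by
      intro k
      induction k with
      | zero => rfl
      | succ k ih => rw [pow_succ g, ih]; funext v; rw [pow_succ e]; rfl
    rw [hgk, pow_one, he]; rfl
  have h2 := Equiv.Perm.card_fixedPoints_modEq hg
  have hgx : Fintype.card g.fixedPoints = 1 := by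
    rw [Fintype.card_eq_one_iff]
    exact ⟨⟨0, map_zero e⟩, fun v => Subtype.ext (hfix _ v.2)⟩
  rw [hgx] at h2
  have h1' := Nat.modEq_iff_dvd.1 h1
  have h2' := Nat.modEq_iff_dvd.1 h2
  rw [show sgnSum Q - 1 = 2 * ((Finset.univ.filter fun v => sgn (Q v) = 1).card : ℤ) - 2 - ((Fintype.card V : ℤ) - 1) by
    rw [two_mul_card_sgn_one]; ring]
  refine dvd_sub ?_ ?_
  · have := (dvd_neg.2 h1').mul_left (2 : ℤ)
    convert this using 1
    push_cast
    ring
  · have := dvd_neg.2 h2'
    convert this using 1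
    push_cast
    ring

omit [Fintype F] [Fintype V] in
/-- averaging: an isometry of the polar form of odd order preserves some form -/
theorem exists_invariant_odd (hQ : QF f Q) (e : V ≃ₗ[F] V) (hef : ∀ u v, f (e u) (e v) = f u v) {r : ℕ}
    (hr : Odd r) (her : e ^ r = 1) : ∃ Q', QF f Q' ∧ ∀ v, Q' (e v) = Q' v := by
  have hpow : ∀ (k : ℕ) u v, f ((e ^ k) u) ((e ^ k) v) = f u v := by
    intro k
    induction k with
    | zero => simp
    | succ k ih => intro u v; rw [pow_succ, LinearEquiv.mul_apply, LinearEquiv.mul_apply, ih, hef]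
  refine ⟨fun v => ∑ i ∈ Finset.range r, Q ((e ^ i) v), ⟨fun c v => ?_, fun u v => ?_⟩, fun v => ?_⟩
  · simp only [map_smul, hQ.smul, Finset.mul_sum]
  · simp only [map_add, hQ.add, hpow, Finset.sum_add_distrib, Finset.sum_const, Finset.card_range, nsmul_eq_mul]
    obtain ⟨t, rfl⟩ := hr
    push_cast
    linear_combination ((t : F) * f u v) * CharTwo.two_eq_zero (R := F)
  · have h : ∀ i : ℕ, (e ^ i) (e v) = (e ^ (i + 1)) v := fun i => by rw [pow_succ]; rfl
    simp only [h]
    have h1 := Finset.sum_range_succ' (fun i => Q ((e ^ i) v)) r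
    rw [Finset.sum_range_succ, her, pow_zero] at h1
    exact (add_right_cancel h1).symm

end Cfsg.Agent.Lib.CharTwoQuad
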