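import Mathlib
import Cfsg.Prelude.Def_GeometricClasses
import Cfsg.Agent.Lib.CharTwoQuad.Sign
import Cfsg.Agent.Lib.LinClasses.SympBasis
import Cfsg.Agent.Lib.Forms.Symplectic
import Cfsg.Agent.Lib.Forms.Bridge
import Cfsg.Agent.Lib.Dickson.StdQuad

/-! Standard forms, fixed-point-free elements of the symplectic group, and involutions, in characteristic two. -/
set_option autoImplicit false

namespace Cfsg.Agent.Lib.CharTwoQuad

open scoped Matrix
open Cfsg.Agent.Lib

variable {F : Type*} [Field F] [Fintype F] [CharP F 2]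

omit [Fintype F] [CharP F 2] in
lemma qf_of_quadraticForm {V : Type*} [AddCommGroup V] [Module F V] (Q : QuadraticForm F V) :
    QF (QuadraticMap.polarBilin Q) ⇑Q where
  smul c v := by rw [QuadraticMap.map_smul, smul_eq_mul, pow_two]
  add u v := by simp [QuadraticMap.polar]

omit [Fintype F] in
lemma sympBilin_eq (m : ℕ) (u v : Fin m ⊕ Fin m → F) :
    Forms.sympBilin m F u v = ∑ i, (u (.inl i) * v (.inr i) + u (.inr i) * v (.inl i)) := by
  rw [Forms.sympBilin_apply, Forms.sympForm_apply]
  exact Finset.sum_congr rfl fun i _ => by rw [CharTwo.sub_eq_add, add_comm]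

omit [Fintype F] in
lemma qf_plus (m : ℕ) : QF (Forms.sympBilin m F) (Cfsg.quadFormPlus m F) where
  smul c v := by
    simp only [Cfsg.quadFormPlus, Pi.smul_apply, smul_eq_mul, Finset.mul_sum]
    exact Finset.sum_congr rfl fun i _ => by ring
  add u v := by
    rw [sympBilin_eq]
    simp only [Cfsg.quadFormPlus, Pi.add_apply, ← Finset.sum_add_distrib]
    exact Finset.sum_congr rfl fun i _ => by ring

omit [Fintype F] in
lemma sympBilin_nondeg (m : ℕ) : ∀ v : Fin m ⊕ Fin m → F, (∀ u, Forms.sympBilin m F u v = 0) → v = 0 := by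
  intro v hv
  funext k
  rcases k with i | i
  · have h := hv (Pi.single (.inr i) 1)
    rw [sympBilin_eq] at h
    simpa [Pi.single_apply] using h
  · have h := hv (Pi.single (.inl i) 1)
    rw [sympBilin_eq] at h
    simpa [Pi.single_apply] using h

variable {V : Type*} [AddCommGroup V] [Module F V] [Fintype V] [FiniteDimensional F V]
  {f : LinearMap.BilinForm F V} {Q : V → F}

/-- the two possible values -/
lemma sgnSum_cases (hQ : QF f Q) (hf : ∀ v, (∀ u, f u v = 0) → v = 0) {d : ℕ} (hd : Module.finrank F V = d + d) :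
    sgnSum Q = (Fintype.card F : ℤ) ^ d ∨ sgnSum Q = -(Fintype.card F : ℤ) ^ d := by
  refine mul_self_eq_mul_self_iff.1 ?_
  rw [sgnSum_sq hQ hf, Module.card_eq_pow_finrank (K := F), hd, ← pow_add]
  push_cast
  rfl

lemma sgnSum_plus (m : ℕ) : sgnSum (Cfsg.quadFormPlus m F) = (Fintype.card F : ℤ) ^ m := by
  classical
  have hd : Module.finrank F (Fin m ⊕ Fin m → F) = m + m := by simp
  refine (sgnSum_cases (qf_plus m) (sympBilin_nondeg m) hd).resolve_right fun h => ?_
  let W : Submodule F (Fin m ⊕ Fin m → F) := LinearMap.ker (LinearMap.funLeft F F (Sum.inr : Fin m → Fin m ⊕ Fin m))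
  have hW : ∀ w ∈ W, Cfsg.quadFormPlus m F w = 0 := fun w hw => by
    refine Finset.sum_eq_zero fun i _ => ?_
    rw [show w (.inr i) = 0 from congrFun (LinearMap.mem_ker.1 hw) i, mul_zero]
  have hdim : Module.finrank F W = m := by
    have h1 := LinearMap.finrank_range_add_finrank_ker (LinearMap.funLeft F F (Sum.inr : Fin m → Fin m ⊕ Fin m))
    rw [LinearMap.range_eq_top.2 (LinearMap.funLeft_surjective_of_injective F F _ Sum.inr_injective), finrank_top,
      hd, Module.finrank_pi, Fintype.card_fin] at h1
    exact Nat.add_left_cancel h1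
  have h2 := sgnSum_of_totallySingular (qf_plus m) (sympBilin_nondeg m) W hW (by rw [hd, hdim]; ring)
  rw [h] at h2
  have : (0 : ℤ) < (Fintype.card F : ℤ) ^ m := pow_pos (by exact_mod_cast Fintype.card_pos) m
  linarith

lemma sgnSum_minus {a b : F} (hab : ∀ x y : F, x ^ 2 + a * x * y + b * y ^ 2 = 0 → x = 0 ∧ y = 0) (k : ℕ) :
    sgnSum (Cfsg.quadFormMinus k F a b) = -(Fintype.card F : ℤ) ^ (k + 1) := by
  classical
  have hQ : QF (QuadraticMap.polarBilin (StdForms.minusQ F k a b)) (Cfsg.quadFormMinus k F a b) :=
    StdForms.coe_minusQ F k a b ▸ qf_of_quadraticForm _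
  have h := sgnSum_zeros hQ
  have hz := Classical.natCard_zeros_minus (F := F) (a := a) (b := b) hab k
  rw [Nat.card_eq_fintype_card, Nat.card_eq_fintype_card, Fintype.card_subtype] at hz
  have hz' : ((Finset.univ.filter fun v => Cfsg.quadFormMinus k F a b v = 0).card : ℤ) + (Fintype.card F : ℤ) ^ (k + 1) =
      (Fintype.card F : ℤ) ^ (2 * k + 1) + (Fintype.card F : ℤ) ^ k := by exact_mod_cast hz
  rw [Fintype.card_fun, Fintype.card_sum, Fintype.card_sum, Fintype.card_fin, Fintype.card_fin] at h
  push_cast at h
  have hq : (Fintype.card F : ℤ) - 1 ≠ 0 := by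
    have : (1 : ℤ) < Fintype.card F := by exact_mod_cast Fintype.one_lt_card
    linarith
  apply mul_left_cancel₀ hq
  rw [h]
  linear_combination (Fintype.card F : ℤ) * hz'

/-- symplectic coordinates -/
theorem exists_std_equiv {ι : Type} [Fintype ι] [DecidableEq ι] {g : LinearMap.BilinForm F (ι → F)}
    {R : (ι → F) → F} (hR : QF g R) (hg : ∀ v, (∀ u, g u v = 0) → v = 0) {m : ℕ} (hm : Fintype.card ι = m + m) :
    ∃ Ψ : (Fin m ⊕ Fin m → F) ≃ₗ[F] (ι → F), ∀ u v, g (Ψ u) (Ψ v) = Forms.sympBilin m F u v := by
  have hf : Cfsg.Geo.IsSymplecticForm (fun u v => g u v) :=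
    { bilinear :=
        { add_left := fun x y v => by simp
          smul_left := fun c x v => by simp
          add_right := fun v x y => by simp
          smul_right := fun c v x => by simp }
      skew := fun u v => by rw [CharTwo.neg_eq]; exact hR.symm u v
      alternating := hR.alt
      nondegenerate := fun v hv => by
        have h : ∃ u, g u v ≠ 0 := by
          by_contra h; push Not at h; exact hv (hg v h)
        obtain ⟨u, hu⟩ := h
        exact ⟨⟨u, hu⟩, ⟨u, by show g v u ≠ 0; rwa [hR.symm]⟩⟩ }
  obtain ⟨b, hb, Φ, hΦ⟩ := LinClasses.exists_symp_basis hf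
  obtain rfl : b = m := by omega
  let e : Fin 2 × Fin b ≃ Fin b ⊕ Fin b :=
    { toFun := fun p => if p.1 = 0 then Sum.inl p.2 else Sum.inr p.2
      invFun := Sum.elim (fun j => (0, j)) (fun j => (1, j))
      left_inv := fun p => by obtain ⟨i, j⟩ := p; fin_cases i <;> simp
      right_inv := fun p => by cases p <;> simp }
  refine ⟨(LinearEquiv.funCongrLeft F F e).trans Φ, fun u v => ?_⟩
  rw [sympBilin_eq]
  refine (hΦ _ _).trans (Finset.sum_congr rfl fun j _ => ?_)
  simp [e, LinearEquiv.funCongrLeft_apply, LinearMap.funLeft_apply, CharTwo.sub_eq_add]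

omit [Fintype V] in
/-- transport of the structure -/
lemma QF.pullback {W : Type*} [AddCommGroup W] [Module F W] {g : LinearMap.BilinForm F W} (hQ : QF f Q)
    (Ψ : W ≃ₗ[F] V) (hΨ : ∀ u v, f (Ψ u) (Ψ v) = g u v) : QF g (fun v => Q (Ψ v)) where
  smul c v := by simp [hQ.smul]
  add u v := by simp [hQ.add, hΨ]

/-- a fixed-point-free symplectic map of odd prime order dividing `q^(2m) - 1` -/
theorem exists_fpf {r : ℕ} [Fact r.Prime] (hr : r ≠ 2) {m : ℕ} (hm : m ≠ 0)
    (hdvd : r ∣ Fintype.card F ^ (m + m) - 1) :
    ∃ e : (Fin m ⊕ Fin m → F) ≃ₗ[F] (Fin m ⊕ Fin m → F),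
      (∀ u v, Forms.sympBilin m F (e u) (e v) = Forms.sympBilin m F u v) ∧ e ^ r = 1 ∧
      ∀ v, e v = v → v = 0 := by
  classical
  haveI : NeZero m := ⟨hm⟩
  let L := FiniteField.Extension F 2 m
  haveI : Fintype L := Fintype.ofFinite L
  haveI : CharP L 2 := charP_of_injective_algebraMap (algebraMap F L).injective 2
  let L2 := FiniteField.Extension L 2 2
  haveI : CharP L2 2 := charP_of_injective_algebraMap (algebraMap L L2).injective 2
  haveI : Fintype L2 := Fintype.ofFinite L2
  have hcL : Fintype.card L = Fintype.card F ^ m := by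
    rw [← Nat.card_eq_fintype_card, ← Nat.card_eq_fintype_card, FiniteField.natCard_extension]
  obtain ⟨w, hw⟩ : ∃ w : L2ˣ, orderOf w = r := by
    refine exists_prime_orderOf_dvd_card' r ?_
    rw [Nat.card_units, FiniteField.natCard_extension, Nat.card_eq_fintype_card, hcL, ← pow_mul, mul_two]
    exact hdvd
  set ω : L2 := (w : L2)
  have hω : IsPrimitiveRoot ω r := IsPrimitiveRoot.coe_units_iff.2 (hw ▸ IsPrimitiveRoot.orderOf w)
  have hω0 : ω ≠ 0 := w.ne_zero
  have hω1 : ω ≠ 1 := hω.ne_one (Fact.out : r.Prime).one_lt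
  have hω2 : ω * ω ≠ 1 := fun h => hω.pow_ne_one_of_pos_of_lt (l := 2) (by norm_num)
    (by have := (Fact.out : r.Prime).two_le; omega) (by rw [pow_two]; exact h)
  -- a matrix over `L` of determinant one and order `r` without fixed vectors
  obtain ⟨M, hMdet, hMr, hMfix⟩ : ∃ M : Matrix (Fin 2) (Fin 2) L, M.det = 1 ∧ M ^ r = 1 ∧
      ∀ v, M *ᵥ v = v → v = 0 := by
    have hfix : ∀ M : Matrix (Fin 2) (Fin 2) L, (M - 1).det ≠ 0 → ∀ v, M *ᵥ v = v → v = 0 := fun M hM v hv => by
      by_contra hne
      exact hM (Matrix.exists_mulVec_eq_zero_iff.1 ⟨v, hne, by rw [Matrix.sub_mulVec, hv, Matrix.one_mulVec, sub_self]⟩)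
    by_cases hmem : ω ∈ (algebraMap L L2).range
    · obtain ⟨s, hs⟩ := hmem
      have hs0 : s ≠ 0 := fun h => hω0 (by rw [← hs, h, map_zero])
      have hs1 : s ≠ 1 := fun h => hω1 (by rw [← hs, h, map_one])
      have hsr : s ^ r = 1 := (algebraMap L L2).injective (by rw [map_pow, hs, hω.pow_eq_one, map_one])
      refine ⟨Matrix.diagonal ![s, s⁻¹], ?_, ?_, hfix _ ?_⟩
      · simp [Matrix.det_diagonal, Fin.prod_univ_two, mul_inv_cancel₀ hs0]
      · rw [Matrix.diagonal_pow, ← Matrix.diagonal_one]
        refine congrArg _ (funext fun i => ?_)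
        fin_cases i <;> simp [hsr, inv_pow]
      · rw [← Matrix.diagonal_one, Matrix.diagonal_sub, Matrix.det_diagonal, Fin.prod_univ_two]
        refine mul_ne_zero (sub_ne_zero.2 ?_) (sub_ne_zero.2 ?_)
        · simpa using hs1
        · simpa using hs1
    · set t' : L2 := ω + ω⁻¹
      have hfin : Module.finrank L L2 = 2 := FiniteField.finrank_extension L 2 2
      have hint : IsIntegral L ω := IsIntegral.of_finite L ω
      have hdeg : (minpoly L ω).natDegree = 2 := by
        have h1 := minpoly.natDegree_le (A := L) ω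
        rw [hfin] at h1
        have h2 := minpoly.natDegree_pos hint
        have h3 : (minpoly L ω).natDegree ≠ 1 := fun h => hmem (minpoly.natDegree_eq_one_iff.1 h)
        omega
      -- `ω ↦ ω⁻¹` is the non-trivial automorphism
      have hfrob : ω ^ Fintype.card L = ω⁻¹ := by
        have hdv : r ∣ Fintype.card L - 1 ∨ r ∣ Fintype.card L + 1 := by
          rw [hcL]
          refine (Fact.out : r.Prime).dvd_mul.1 ?_
          convert hdvd using 1
          have h1 : 1 ≤ Fintype.card F ^ m := Nat.one_le_pow _ _ Fintype.card_pos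
          obtain ⟨c, hc⟩ : ∃ c, Fintype.card F ^ m = c + 1 := ⟨_, (Nat.sub_add_cancel h1).symm⟩
          rw [pow_add, hc, Nat.add_sub_cancel, show (c + 1) * (c + 1) = c * (c + 1 + 1) + 1 by ring, Nat.add_sub_cancel]
        rcases hdv with h | h
        · refine absurd ?_ hmem
          obtain ⟨s, hs⟩ : ∃ s : Lˣ, orderOf s = r := by
            refine exists_prime_orderOf_dvd_card' r ?_
            rwa [Nat.card_units, Nat.card_eq_fintype_card]
          have hsp : IsPrimitiveRoot (algebraMap L L2 (s : L)) r :=
            (IsPrimitiveRoot.coe_units_iff.2 (hs ▸ IsPrimitiveRoot.orderOf s)).map_of_injective (algebraMap L L2).injective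
          obtain ⟨i, -, hi⟩ := hsp.eq_pow_of_pow_eq_one hω.pow_eq_one
          exact ⟨(s : L) ^ i, by rw [map_pow, hi]⟩
        · apply eq_inv_of_mul_eq_one_left
          rw [← pow_succ]
          obtain ⟨j, hj⟩ := h
          rw [hj, pow_mul, hω.pow_eq_one, one_pow]
      obtain ⟨t, ht⟩ : ∃ t : L, algebraMap L L2 t = t' := by
        by_contra hno
        push Not at hno
        -- `t'` is fixed by the Frobenius map
        have hfixed : t' ^ Fintype.card L = t' := by
          have hadd : ∀ a b : L2, (a + b) ^ Fintype.card L = a ^ Fintype.card L + b ^ Fintype.card L := by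
            intro a b
            have := map_add (FiniteField.frobeniusAlgHom L L2) a b
            simpa using this
          show (ω + ω⁻¹) ^ Fintype.card L = ω + ω⁻¹
          rw [hadd, inv_pow, hfrob, inv_inv, add_comm]
        -- but only `card L` elements are fixed
        let S := Finset.univ.filter fun a : L2 => a ^ Fintype.card L = a
        have hq1 : 1 < Fintype.card L := Fintype.one_lt_card
        have hcard : S.card ≤ Fintype.card L := by
          have hne : (Polynomial.X ^ Fintype.card L - Polynomial.X : Polynomial L2) ≠ 0 :=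
            FiniteField.X_pow_card_sub_X_ne_zero L2 hq1
          refine le_trans (Finset.card_le_card (fun a ha => ?_))
            ((Polynomial.X ^ Fintype.card L - Polynomial.X : Polynomial L2).roots.toFinset_card_le.trans
              ((Polynomial.card_roots' _).trans_eq (FiniteField.X_pow_card_sub_X_natDegree_eq L2 hq1)))
          rw [Multiset.mem_toFinset, Polynomial.mem_roots hne]
          simp only [S, Finset.mem_filter] at ha
          simp [ha.2]
        have hsub : insert t' (Finset.univ.image (algebraMap L L2)) ⊆ S := by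
          intro a ha
          simp only [S, Finset.mem_filter, Finset.mem_univ, true_and]
          rcases Finset.mem_insert.1 ha with rfl | ha
          · exact hfixed
          · obtain ⟨b, -, rfl⟩ := Finset.mem_image.1 ha
            rw [← map_pow, FiniteField.pow_card]
        have h := Finset.card_le_card hsub
        rw [Finset.card_insert_of_notMem (by simpa using hno), Finset.card_image_of_injective _ (algebraMap L L2).injective,
          Finset.card_univ] at h
        omega
      let M : Matrix (Fin 2) (Fin 2) L := !![0, 1; 1, t]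
      let P : Polynomial L := Polynomial.X ^ 2 + Polynomial.C t * Polynomial.X + 1
      have hPω : Polynomial.aeval ω P = 0 := by
        simp only [P, map_add, map_mul, map_pow, Polynomial.aeval_X, Polynomial.aeval_C, map_one, ht, t']
        rw [add_mul, inv_mul_cancel₀ hω0]
        linear_combination (ω ^ 2 + 1) * CharTwo.two_eq_zero (R := L2)
      have hPmin : minpoly L ω = P := by
        refine (Polynomial.eq_of_monic_of_dvd_of_natDegree_le (minpoly.monic hint) ?_ (minpoly.dvd L ω hPω) ?_).symm
        · simp only [P]; monicity!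
        · rw [hdeg]; simp only [P]; compute_degree!
      have hPM : Polynomial.aeval M P = 0 := by
        simp only [P, map_add, map_mul, map_pow, Polynomial.aeval_X, Polynomial.aeval_C, map_one,
          Matrix.algebraMap_eq_diagonal, pow_two]
        ext i j
        fin_cases i <;> fin_cases j <;>
          simp [M, Matrix.mul_apply, Fin.sum_univ_two, Matrix.diagonal_apply] <;>
          first
            | exact CharTwo.add_self_eq_zero _
            | linear_combination (t * t + 1) * CharTwo.two_eq_zero (R := L)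
            | linear_combination CharTwo.two_eq_zero (R := L)
            | linear_combination t * CharTwo.two_eq_zero (R := L)
      refine ⟨M, by simp [M, Matrix.det_fin_two, CharTwo.neg_eq], ?_, hfix _ ?_⟩
      · have hd : minpoly L ω ∣ Polynomial.X ^ r - 1 := minpoly.dvd L ω (by simp [hω.pow_eq_one])
        obtain ⟨R, hR⟩ := hPmin ▸ hd
        have h := congrArg (Polynomial.aeval M) hR
        rw [map_mul, hPM, zero_mul, map_sub, map_pow, Polynomial.aeval_X, map_one, sub_eq_zero] at h
        exact h
      · have htne : t ≠ 0 := fun h => hω2 (by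
          rw [h, map_zero] at ht
          have h' : ω * (ω + ω⁻¹) = 0 := by rw [show ω + ω⁻¹ = 0 from ht.symm, mul_zero]
          rw [mul_add, mul_inv_cancel₀ hω0, CharTwo.add_eq_zero] at h'
          exact h')
        have hdet : (M - 1).det = t := by
          rw [Matrix.det_fin_two]
          simp [M]
          linear_combination -(t : L) * CharTwo.two_eq_zero (R := L)
        rw [hdet]
        exact htne
  -- the trace form
  let bL : Module.Basis (Fin m) F L := (Module.finBasis F L).reindex (finCongr (FiniteField.finrank_extension F 2 m))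
  have hnd : (Algebra.traceForm F L).Nondegenerate := traceForm_nondegenerate F L
  let bD := (Algebra.traceForm F L).dualBasis hnd bL
  let Φ : (Fin m ⊕ Fin m → F) ≃ₗ[F] (Fin 2 → L) :=
    (LinearEquiv.sumArrowLequivProdArrow (Fin m) (Fin m) F F).trans
      ((bL.equivFun.symm.prodCongr bD.equivFun.symm).trans (LinearEquiv.finTwoArrow F L).symm)
  have hΦ : ∀ u v, Forms.sympBilin m F u v =
      Algebra.trace F L (Φ u 0 * Φ v 1 + Φ u 1 * Φ v 0) := by
    intro u v
    have hpair : ∀ (x y : Fin m → F), Algebra.trace F L (bL.equivFun.symm x * bD.equivFun.symm y) = ∑ i, x i * y i := by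
      intro x y
      simp only [Module.Basis.equivFun_symm_apply]
      rw [← Algebra.traceForm_apply, map_sum]
      refine Finset.sum_congr rfl fun i _ => ?_
      rw [map_sum, LinearMap.sum_apply, Finset.sum_eq_single i]
      · rw [map_smul, map_smul, LinearMap.smul_apply, smul_eq_mul, smul_eq_mul,
          (Algebra.traceForm_isSymm F).eq, LinearMap.BilinForm.apply_dualBasis_left, if_pos rfl]
        ring
      · intro j _ hj
        rw [map_smul, map_smul, LinearMap.smul_apply, smul_eq_mul, smul_eq_mul,
          (Algebra.traceForm_isSymm F).eq, LinearMap.BilinForm.apply_dualBasis_left, if_neg hj]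
        ring
      · simp
    rw [sympBilin_eq, map_add, Finset.sum_add_distrib]
    congr 1
    · exact (hpair (fun i => u (.inl i)) (fun i => v (.inr i))).symm
    · rw [mul_comm (Φ u 1)]
      exact ((hpair (fun i => v (.inl i)) (fun i => u (.inr i))).trans
        (Finset.sum_congr rfl fun i _ => mul_comm _ _)).symm
  let T : Module.End F (Fin 2 → L) := (Matrix.mulVecLin M).restrictScalars F
  have hTk : ∀ k : ℕ, ∀ v, (T ^ k) v = (M ^ k) *ᵥ v := by
    intro k
    induction k with
    | zero => simp
    | succ k ih => intro v; rw [pow_succ, Module.End.mul_apply, ih, pow_succ, ← Matrix.mulVec_mulVec]; rfl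
  let E : Module.End F (Fin m ⊕ Fin m → F) := Φ.symm.conj T
  have hE : ∀ v, E v = Φ.symm (M *ᵥ Φ v) := fun v => rfl
  have hEk : ∀ k : ℕ, ∀ v, (E ^ k) v = Φ.symm ((M ^ k) *ᵥ Φ v) := by
    intro k
    induction k with
    | zero => simp
    | succ k ih =>
      intro v
      rw [pow_succ, Module.End.mul_apply, ih, hE, LinearEquiv.apply_symm_apply, pow_succ, ← Matrix.mulVec_mulVec]
  have hbij : Function.Bijective E := by
    have h : ∀ v, (E ^ r) v = v := fun v => by rw [hEk, hMr, Matrix.one_mulVec, LinearEquiv.symm_apply_apply]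
    have hr1 : r = r - 1 + 1 := (Nat.sub_add_cancel (Fact.out : r.Prime).one_le).symm
    constructor
    · intro a b hab
      rw [← h a, ← h b, hr1, pow_succ, Module.End.mul_apply, Module.End.mul_apply, hab]
    · intro b
      exact ⟨(E ^ (r - 1)) b, by rw [← Module.End.mul_apply, ← pow_succ', ← hr1, h]⟩
  let e := LinearEquiv.ofBijective E hbij
  refine ⟨e, fun u v => ?_, ?_, fun v hv => ?_⟩
  · rw [hΦ, hΦ]
    have he : ∀ w, Φ (e w) = M *ᵥ Φ w := fun w => by
      show Φ (E w) = _
      rw [hE, LinearEquiv.apply_symm_apply]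
    rw [he, he]
    congr 1
    simp only [Matrix.mulVec, dotProduct, Fin.sum_univ_two]
    have hd := hMdet
    rw [Matrix.det_fin_two] at hd
    linear_combination (Φ u 0 * Φ v 1 + Φ u 1 * Φ v 0) * hd +
      (M 0 0 * M 1 0 * (Φ u 0 * Φ v 0) + M 0 1 * M 1 1 * (Φ u 1 * Φ v 1) +
        M 0 1 * M 1 0 * (Φ u 0 * Φ v 1 + Φ u 1 * Φ v 0)) * CharTwo.two_eq_zero (R := L)
  · refine LinearEquiv.ext fun v => ?_
    have hk : ∀ k : ℕ, (e ^ k) v = (E ^ k) v := by
      intro k
      induction k with
      | zero => rfl
      | succ k ih => rw [pow_succ', LinearEquiv.mul_apply, ih, pow_succ', Module.End.mul_apply]; rfl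
    rw [hk, hEk, hMr, Matrix.one_mulVec, LinearEquiv.symm_apply_apply]
    rfl
  · have hv' : E v = v := hv
    have h : M *ᵥ Φ v = Φ v := by rw [← Φ.eq_symm_apply.1 ((hE v).symm.trans hv').symm]
    exact Φ.map_eq_zero_iff.1 (hMfix _ h)

omit [Fintype V] in
/-- alternating non-degenerate forms live in even dimension -/
theorem even_finrank_of_alt {g : LinearMap.BilinForm F V} (ha : ∀ v, g v v = 0) (hn : ∀ v, (∀ u, g u v = 0) → v = 0) :
    Even (Module.finrank F V) := by
  classical
  let b := Module.finBasis F V
  have hsym : ∀ u v, g u v = -g v u := fun u v => by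
    have h := ha (u + v)
    simp only [map_add, LinearMap.add_apply, ha] at h
    linear_combination h
  have hf : Cfsg.Geo.IsSymplecticForm (fun u v : Fin (Module.finrank F V) → F => g (b.equivFun.symm u) (b.equivFun.symm v)) :=
    { bilinear :=
        { add_left := fun x y v => by simp only [map_add, LinearMap.add_apply]
          smul_left := fun c x v => by simp only [map_smul, LinearMap.smul_apply, smul_eq_mul]
          add_right := fun v x y => by simp only [map_add]
          smul_right := fun c v x => by simp only [map_smul, smul_eq_mul] }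
      skew := fun u v => hsym _ _
      alternating := fun v => ha _
      nondegenerate := fun v hv => by
        have h : ∃ u, g u (b.equivFun.symm v) ≠ 0 := by
          by_contra h; push Not at h; exact hv (b.equivFun.symm.map_eq_zero_iff.1 (hn _ h))
        obtain ⟨u, hu⟩ := h
        refine ⟨⟨b.equivFun u, ?_⟩, ⟨b.equivFun u, ?_⟩⟩
        · simpa only [LinearEquiv.symm_apply_apply] using hu
        · simp only [LinearEquiv.symm_apply_apply]
          rw [hsym]; exact neg_ne_zero.2 hu }
  obtain ⟨c, hc, -⟩ := LinClasses.exists_symp_basis hf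
  rw [Fintype.card_fin] at hc
  exact ⟨c, hc.symm⟩

omit [Fintype V] in
/-- the quadratic space data of an involution -/
theorem involution_core (hQ : QF f Q) (hf : ∀ v, (∀ u, f u v = 0) → v = 0) (e : V ≃ₗ[F] V)
    (hinv : ∀ v, Q (e v) = Q v) (he : ∀ v, e (e v) = v) {d : ℕ} (hd : Module.finrank F V = d + d)
    (hsing : ∀ v, e v = v → Q v = 0) :
    ∃ W : Submodule F V, Module.finrank F W = d ∧ (∀ w ∈ W, Q w = 0) ∧ Even d := by
  classical
  have hef : ∀ u v, f (e u) (e v) = f u v := fun u v => by
    have h1 := hQ.add (e u) (e v)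
    rw [← map_add, hinv, hinv, hinv] at h1
    linear_combination -h1 + hQ.add u v
  let N : V →ₗ[F] V := e.toLinearMap + LinearMap.id
  have hN : ∀ v, N v = e v + v := fun v => rfl
  have hvv : ∀ v : V, v + v = 0 := fun v => by rw [← two_smul F v, CharTwo.two_eq_zero, zero_smul]
  have hK : ∀ v, v ∈ LinearMap.ker N ↔ e v = v := fun v => by
    rw [LinearMap.mem_ker, hN]
    constructor
    · intro h; exact add_right_cancel (h.trans (hvv v).symm)
    · intro h; rw [h, hvv]
  have hR : LinearMap.range N ≤ LinearMap.ker N := by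
    rintro _ ⟨v, rfl⟩
    rw [hK, hN, map_add, he, add_comm]
  have hadj : ∀ u v, f (N u) v = f u (N v) := fun u v => by
    rw [hN, hN, map_add, map_add, LinearMap.add_apply]
    have h := hef u (e v)
    rw [he] at h
    rw [h]
  set K := LinearMap.ker N
  have hKts : ∀ w ∈ K, Q w = 0 := fun w hw => hsing w ((hK w).1 hw)
  have hrn := N.finrank_range_add_finrank_ker
  have hle : Module.finrank F K ≤ d := by
    let φ : V →ₗ[F] Module.Dual F K := K.subtype.dualMap ∘ₗ f
    have hinj : Function.Injective f := (injective_iff_map_eq_zero f).2 fun u hu => hf u fun w => by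
      rw [hQ.symm]; exact LinearMap.congr_fun hu w
    have hs := (LinearMap.injective_iff_surjective_of_finrank_eq_finrank
      (Subspace.dual_finrank_eq (K := F) (V := V)).symm).1 hinj
    have hsurj : LinearMap.range φ = ⊤ :=
      LinearMap.range_eq_top.2 ((LinearMap.dualMap_surjective_of_injective K.injective_subtype).comp hs)
    have hWK : K ≤ LinearMap.ker φ := fun a ha => LinearMap.ext fun b => by
      show f a (b : V) = 0
      have h := hQ.add a b
      rw [hKts a ha, hKts b b.2, hKts (a + b) (add_mem ha b.2)] at h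
      simpa using h.symm
    have h1 := φ.finrank_range_add_finrank_ker
    rw [hsurj, finrank_top, Subspace.dual_finrank_eq] at h1
    have h2 := Submodule.finrank_mono hWK
    omega
  have hRle := Submodule.finrank_mono hR
  have hKd : Module.finrank F K = d := by
    change Module.finrank F (LinearMap.ker N) ≤ d at hle
    change Module.finrank F (LinearMap.ker N) = d
    have hKk : Module.finrank F K = Module.finrank F (LinearMap.ker N) := rfl
    omega
  refine ⟨K, hKd, hKts, ?_⟩
  -- an alternating form on a complement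
  obtain ⟨C, hC⟩ := Submodule.exists_isCompl K
  let g : LinearMap.BilinForm F C := f.compl₁₂ C.subtype (N ∘ₗ C.subtype)
  have hg : ∀ u v : C, g u v = f (u : V) (N (v : V)) := fun u v => rfl
  have halt : ∀ v, g v v = 0 := fun v => by
    have h := hQ.add (e (v : V)) (v : V)
    rw [← hN, hKts _ (hR ⟨_, rfl⟩), hinv, CharTwo.add_self_eq_zero, zero_add] at h
    rw [hg, hN, map_add, hQ.alt, add_zero, hQ.symm]
    exact h.symm
  have hnd : ∀ v, (∀ u, g u v = 0) → v = 0 := by
    intro v hv
    have h0 : N (v : V) = 0 := hf _ fun u => by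
      obtain ⟨a, ha, b, hb, rfl⟩ := Submodule.mem_sup.1 ((hC.sup_eq_top ▸ Submodule.mem_top : u ∈ K ⊔ C))
      rw [map_add, LinearMap.add_apply, ← hadj a, LinearMap.mem_ker.1 ha, map_zero, LinearMap.zero_apply, zero_add]
      exact hv ⟨b, hb⟩
    exact Subtype.ext (Submodule.disjoint_def.1 hC.disjoint _ (LinearMap.mem_ker.2 h0) v.2)
  have hev := even_finrank_of_alt halt hnd
  have hsum := Submodule.finrank_add_eq_of_isCompl hC
  rwa [show Module.finrank F C = d by omega] at hev

/-- an involution of the polar form preserves some form -/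
theorem exists_invariant_involution (hQ : QF f Q) (hf : ∀ v, (∀ u, f u v = 0) → v = 0) (e : V ≃ₗ[F] V)
    (hef : ∀ u v, f (e u) (e v) = f u v) (he : ∀ v, e (e v) = v) :
    ∃ Q', QF f Q' ∧ ∀ v, Q' (e v) = Q' v := by
  classical
  obtain ⟨w, hw⟩ := exists_shift hQ (hQ.comp e hef) hf
  let N : V →ₗ[F] V := e.toLinearMap + LinearMap.id
  have hN : ∀ v, N v = e v + v := fun v => rfl
  have hvv : ∀ v : V, v + v = 0 := fun v => by rw [← two_smul F v, CharTwo.two_eq_zero, zero_smul]
  have hK : ∀ v, v ∈ LinearMap.ker N → e v = v := fun v h => by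
    rw [LinearMap.mem_ker, hN] at h
    exact add_right_cancel (h.trans (hvv v).symm)
  have hwK : ∀ k, k ∈ LinearMap.ker N → f w k = 0 := fun k hk => by
    have h := hw k
    rw [hK k hk] at h
    simpa [pow_eq_zero_iff] using h
  -- `w` lies in the range of `N`
  have hinj : Function.Injective f := (injective_iff_map_eq_zero f).2 fun u hu => hf u fun w => by
    rw [hQ.symm]; exact LinearMap.congr_fun hu w
  let φ : V →ₗ[F] Module.Dual F (LinearMap.ker N) := (LinearMap.ker N).subtype.dualMap ∘ₗ f
  have hadj : ∀ u v, f (N u) v = f u (N v) := fun u v => by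
    rw [hN, hN, map_add, map_add, LinearMap.add_apply]
    have h := hef u (e v)
    rw [he] at h
    rw [h]
  have hRφ : LinearMap.range N ≤ LinearMap.ker φ := by
    rintro _ ⟨u, rfl⟩
    refine LinearMap.ext fun k => ?_
    show f (N u) (k : V) = 0
    rw [hadj, LinearMap.mem_ker.1 k.2, map_zero]
  have hsurj : LinearMap.range φ = ⊤ :=
    LinearMap.range_eq_top.2 ((LinearMap.dualMap_surjective_of_injective (LinearMap.ker N).injective_subtype).comp
      ((LinearMap.injective_iff_surjective_of_finrank_eq_finrank
        (Subspace.dual_finrank_eq (K := F) (V := V)).symm).1 hinj))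
  have heq : LinearMap.range N = LinearMap.ker φ := by
    refine Submodule.eq_of_le_of_finrank_le hRφ ?_
    have h1 := φ.finrank_range_add_finrank_ker
    rw [hsurj, finrank_top, Subspace.dual_finrank_eq] at h1
    have h2 := N.finrank_range_add_finrank_ker
    omega
  obtain ⟨u, hu⟩ : w ∈ LinearMap.range N := by
    rw [heq]
    exact LinearMap.ext fun k => hwK k k.2
  refine ⟨_, hQ.shift u, fun v => ?_⟩
  have h1 : Q (e v) = Q v + f w v ^ 2 := hw v
  have h2 : f w v = f u (e v) + f u v := by rw [← hu, hadj, hN, map_add]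
  show Q (e v) + f u (e v) ^ 2 = Q v + f u v ^ 2
  rw [h1, h2, CharTwo.add_sq]
  linear_combination (f u (e v) ^ 2) * CharTwo.two_eq_zero (R := F)

/-- an involution preserves a form of a given sign, unless it is the exceptional kind -/
theorem exists_invariant_sign (hQ : QF f Q) (hf : ∀ v, (∀ u, f u v = 0) → v = 0) (e : V ≃ₗ[F] V)
    (hef : ∀ u v, f (e u) (e v) = f u v) (he : ∀ v, e (e v) = v) {d : ℕ} (hd : Module.finrank F V = d + d)
    (hgood : 0 < sgnSum Q ∨ Odd d) :
    ∃ Q', QF f Q' ∧ (∀ v, Q' (e v) = Q' v) ∧ sgnSum Q' = sgnSum Q := by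
  classical
  obtain ⟨Q', hQ', hinv⟩ := exists_invariant_involution hQ hf e hef he
  by_cases hs : sgnSum Q' = sgnSum Q
  · exact ⟨Q', hQ', hinv, hs⟩
  have hneg : sgnSum Q' = -sgnSum Q := by
    rcases sgnSum_cases hQ hf hd with h | h <;> rcases sgnSum_cases hQ' hf hd with h' | h' <;>
      first
        | exact absurd (h'.trans h.symm) hs
        | (rw [h, h']; try ring)
  by_cases hk : ∃ k, e k = k ∧ Q' k ≠ 0
  · obtain ⟨k, hek, hk0⟩ := hk
    obtain ⟨s, hs'⟩ := exists_sgn_sq_mul hk0
    refine ⟨_, hQ'.shift (s • k), fun v => ?_, ?_⟩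
    · show Q' (e v) + f (s • k) (e v) ^ 2 = Q' v + f (s • k) v ^ 2
      rw [hinv, map_smul, LinearMap.smul_apply, LinearMap.smul_apply, ← hef k v, hek]
    · rw [sgnSum_shift hQ', hQ'.smul, hs', hneg]; ring
  · push Not at hk
    obtain ⟨W, hW, hWs, hev⟩ := involution_core hQ' hf e hinv he hd hk
    rcases hgood with h | h
    · have hpos := sgnSum_of_totallySingular hQ' hf W hWs (by omega)
      rw [hneg] at hpos
      linarith
    · exact absurd hev (Nat.not_even_iff_odd.2 h)

end Cfsg.Agent.Lib.CharTwoQuad
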