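import Mathlib
import Cfsg.Prelude.Def_GeometricClasses
import Cfsg.Agent.Lib.CharTwoQuad.Witness
import Cfsg.Agent.Lib.Forms.Parity
import Cfsg.Agent.Lib.Forms.Bridge

/-! Nonsingular points of an even-dimensional quadratic space in characteristic two. -/
set_option autoImplicit false

namespace Cfsg.Agent.Lib.CharTwoQuad

open scoped Matrix
open Cfsg.Agent.Lib

variable {F : Type*} [Field F] [Fintype F] [CharP F 2] {ι : Type} [Fintype ι] [DecidableEq ι]

/-- the number of nonsingular points -/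
theorem card_points {g : LinearMap.BilinForm F (ι → F)} {Q : (ι → F) → F} (hQ : QF g Q) :
    (Fintype.card F : ℤ) * Nat.card {W : Submodule F (ι → F) // Module.finrank F W = 1 ∧ ∃ v ∈ W, Q v ≠ 0} =
      (Fintype.card (ι → F) : ℤ) - sgnSum Q := by
  classical
  let P := {W : Submodule F (ι → F) // Module.finrank F W = 1 ∧ ∃ v ∈ W, Q v ≠ 0}
  let S := {v : ι → F // Q v ≠ 0}
  have hspan : ∀ v : S, Module.finrank F (F ∙ (v : ι → F)) = 1 := fun v =>
    finrank_span_singleton (fun h => v.2 (by rw [h, hQ.zero]))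
  let m : S → P := fun v => ⟨F ∙ (v : ι → F), hspan v, v, Submodule.mem_span_singleton_self _, v.2⟩
  haveI : Fintype P := Fintype.ofFinite P
  have hfib : ∀ W : P, Fintype.card {v : S // m v = W} = Fintype.card F - 1 := by
    intro W
    obtain ⟨v, hvW, hv⟩ := W.2.2
    have hv0 : v ≠ 0 := fun h => hv (by rw [h, hQ.zero])
    have hW : W.1 = F ∙ v := (Submodule.eq_of_le_of_finrank_eq
      ((Submodule.span_singleton_le_iff_mem _ _).2 hvW) (by rw [finrank_span_singleton hv0, W.2.1])).symm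
    rw [← Fintype.card_units]
    refine (Fintype.card_congr (Equiv.ofBijective (fun t : Fˣ =>
      (⟨⟨(t : F) • v, by rw [hQ.smul]; exact mul_ne_zero (pow_ne_zero _ t.ne_zero) hv⟩, ?_⟩ : {u : S // m u = W})) ⟨?_, ?_⟩)).symm
    · apply Subtype.ext
      show F ∙ ((t : F) • v) = W.1
      rw [hW, Submodule.span_singleton_smul_eq t.isUnit]
    · intro s t h
      exact Units.ext (smul_left_injective F hv0 (congrArg (fun x : {u : S // m u = W} => (x.1 : ι → F)) h))
    · rintro ⟨⟨u, hu⟩, hmu⟩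
      have h : u ∈ F ∙ v := by
        rw [← hW, ← congrArg Subtype.val hmu]
        exact Submodule.mem_span_singleton_self u
      obtain ⟨t, rfl⟩ := Submodule.mem_span_singleton.1 h
      have ht : t ≠ 0 := fun h0 => hu (by rw [h0, zero_smul, hQ.zero])
      exact ⟨Units.mk0 t ht, rfl⟩
  have hS : Fintype.card S = Fintype.card P * (Fintype.card F - 1) := by
    rw [← Fintype.card_congr (Equiv.sigmaFiberEquiv m), Fintype.card_sigma]
    simp only [hfib, Finset.sum_const, Finset.card_univ, smul_eq_mul]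
  have hz := sgnSum_zeros hQ
  have hsplit : Fintype.card S + (Finset.univ.filter fun v => Q v = 0).card = Fintype.card (ι → F) := by
    rw [Fintype.card_subtype, ← Finset.card_union_of_disjoint (Finset.disjoint_filter.2 fun v _ h h' => h h'),
      ← Finset.filter_or, Finset.filter_true_of_mem (fun v _ => (em (Q v = 0)).symm), Finset.card_univ]
  have hq : (Fintype.card F : ℤ) - 1 ≠ 0 := by
    have : (1 : ℤ) < Fintype.card F := by exact_mod_cast Fintype.one_lt_card
    linarith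
  rw [Nat.card_eq_fintype_card]
  apply mul_left_cancel₀ hq
  rw [hS] at hsplit
  have hsplit' := congrArg (fun k : ℕ => (k : ℤ)) hsplit
  push_cast [Nat.cast_sub (Fintype.card_pos (α := F) : 1 ≤ Fintype.card F)] at hsplit'
  linear_combination hz + (Fintype.card F : ℤ) * hsplit'

/-- the derangement of odd prime order -/
theorem exists_derangement_odd {Q : QuadraticForm F (ι → F)} (hQ : (QuadraticMap.polarBilin Q).Nondegenerate)
    {d : ℕ} (hd : 3 ≤ d) (hι : Fintype.card ι = d + d) {r : ℕ} [Fact r.Prime] (hr : r ≠ 2)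
    (hdvd : r ∣ Nat.card {W : Submodule F (ι → F) // Module.finrank F W = 1 ∧ ∃ v ∈ W, Q v ≠ 0}) :
    ∃ x : GL ι F, x ∈ Cfsg.Geo.omegaGL ⇑Q ∧ x ^ r = 1 ∧ (∀ z : F, (x : Matrix ι ι F) ≠ z • 1) ∧
      ∀ W : Submodule F (ι → F), (Module.finrank F W = 1 ∧ ∃ v ∈ W, Q v ≠ 0) →
        ¬ W.map (Matrix.toLin' (x : Matrix ι ι F)) ≤ W := by
  classical
  have hrp : r.Prime := Fact.out
  set f := QuadraticMap.polarBilin Q
  have hq : QF f ⇑Q := qf_of_quadraticForm Q
  have hf : ∀ v, (∀ u, f u v = 0) → v = 0 := fun v hv => hQ.2 v hv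
  have hfin : Module.finrank F (ι → F) = d + d := by rw [Module.finrank_pi, hι]
  set qq : ℤ := (Fintype.card F : ℤ)
  have hcV : (Fintype.card (ι → F) : ℤ) = qq ^ d * qq ^ d := by
    rw [Fintype.card_fun, hι, ← pow_add]; push_cast; rfl
  -- the congruence
  have hcong : (r : ℤ) ∣ qq ^ d - (sgnSum ⇑Q / qq ^ d) := by
    have h1 : (r : ℤ) ∣ qq * Nat.card {W : Submodule F (ι → F) // Module.finrank F W = 1 ∧ ∃ v ∈ W, Q v ≠ 0} :=
      (Int.natCast_dvd_natCast.2 hdvd).mul_left _
    rw [card_points hq, hcV] at h1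
    have hqd : qq ^ d ≠ 0 := pow_ne_zero _ (by simp [qq])
    have h2 : sgnSum ⇑Q = qq ^ d * (sgnSum ⇑Q / qq ^ d) := by
      rcases sgnSum_cases hq hf hfin with h | h <;> rw [h]
      · rw [Int.ediv_self hqd, mul_one]
      · rw [Int.neg_ediv_of_dvd dvd_rfl, Int.ediv_self hqd]; ring
    rw [h2, ← mul_sub] at h1
    refine ((Nat.prime_iff_prime_int.1 hrp).dvd_mul.1 h1).resolve_left fun h => ?_
    have h' := Int.natCast_dvd_natCast.1 (show (r : ℤ) ∣ ((Fintype.card F : ℕ) : ℤ) from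
      (Nat.prime_iff_prime_int.1 hrp).dvd_of_dvd_pow h)
    obtain ⟨k, -, hk⟩ := FiniteField.card F 2
    rw [hk] at h'
    exact hr ((Nat.prime_dvd_prime_iff_eq hrp Nat.prime_two).1 (hrp.dvd_of_dvd_pow h'))
  have hε : sgnSum ⇑Q / qq ^ d = 1 ∨ sgnSum ⇑Q / qq ^ d = -1 := by
    have hqd : qq ^ d ≠ 0 := pow_ne_zero _ (by simp [qq])
    rcases sgnSum_cases hq hf hfin with h | h <;> rw [h]
    · exact Or.inl (Int.ediv_self hqd)
    · exact Or.inr (by rw [Int.neg_ediv_of_dvd dvd_rfl, Int.ediv_self hqd])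
  have hsq : r ∣ Fintype.card F ^ (d + d) - 1 := by
    rw [← Int.natCast_dvd_natCast, Nat.cast_sub (Nat.one_le_pow _ _ Fintype.card_pos)]
    push_cast
    have h := hcong.mul_right (qq ^ d + sgnSum ⇑Q / qq ^ d)
    rcases hε with e | e
    · rw [show qq ^ (d + d) - 1 = (qq ^ d - 1) * (qq ^ d + 1) by ring]
      rwa [e] at h
    · rw [show qq ^ (d + d) - 1 = (qq ^ d - -1) * (qq ^ d + -1) by ring]
      rwa [e] at h
  obtain ⟨e₀, he₀f, he₀r, he₀fix⟩ := exists_fpf (F := F) hr (by omega : d ≠ 0) hsq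
  obtain ⟨Ψ, hΨ⟩ := exists_std_equiv hq hf hι
  let e : (ι → F) ≃ₗ[F] (ι → F) := (Ψ.symm.trans e₀).trans Ψ
  have hek : ∀ k : ℕ, ∀ v, (e ^ k) (Ψ v) = Ψ ((e₀ ^ k) v) := by
    intro k
    induction k with
    | zero => intro v; rfl
    | succ k ih =>
      intro v
      rw [pow_succ, LinearEquiv.mul_apply, show e (Ψ v) = Ψ (e₀ v) by simp [e], ih, pow_succ, LinearEquiv.mul_apply]
  have her : e ^ r = 1 := LinearEquiv.ext fun v => by
    obtain ⟨v, rfl⟩ := Ψ.surjective v
    rw [hek, he₀r]; rfl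
  have hefix : ∀ v, e v = v → v = 0 := fun v hv => by
    obtain ⟨v, rfl⟩ := Ψ.surjective v
    rw [show e (Ψ v) = Ψ (e₀ v) by simp [e]] at hv
    rw [he₀fix v (Ψ.injective hv), map_zero]
  have hef : ∀ u v, f (e u) (e v) = f u v := fun u v => by
    obtain ⟨u, rfl⟩ := Ψ.surjective u
    obtain ⟨v, rfl⟩ := Ψ.surjective v
    rw [show e (Ψ u) = Ψ (e₀ u) by simp [e], show e (Ψ v) = Ψ (e₀ v) by simp [e], hΨ, hΨ, he₀f]
  obtain ⟨Q', hQ', hinv⟩ := exists_invariant_odd hq e hef (hrp.odd_of_ne_two hr) her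
  -- the sign of the invariant form
  have hsame : sgnSum Q' = sgnSum ⇑Q := by
    have h1 := dvd_sgnSum_sub_one hQ' e her hefix hinv
    have hne : ¬ (r : ℤ) ∣ 2 := fun h => by
      have := Int.natCast_dvd_natCast.1 (show (r : ℤ) ∣ ((2 : ℕ) : ℤ) by exact_mod_cast h)
      exact hr ((Nat.prime_dvd_prime_iff_eq hrp Nat.prime_two).1 this)
    have hqd : qq ^ d ≠ 0 := pow_ne_zero _ (by simp [qq])
    rcases sgnSum_cases hq hf hfin with h | h <;> rcases sgnSum_cases hQ' hf hfin with h' | h'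
    · exact h'.trans h.symm
    · exfalso
      rw [h, Int.ediv_self hqd] at hcong
      rw [h'] at h1
      apply hne
      have := (dvd_add h1 hcong).neg_right
      rw [show (2 : ℤ) = -(-qq ^ d - 1 + (qq ^ d - 1)) by ring]
      exact this
    · exfalso
      rw [h, Int.neg_ediv_of_dvd dvd_rfl, Int.ediv_self hqd] at hcong
      rw [h'] at h1
      apply hne
      have := dvd_sub hcong h1
      rw [show (2 : ℤ) = qq ^ d - -1 - (qq ^ d - 1) by ring]
      exact this
    · exact h'.trans h.symm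
  obtain ⟨g, -, hg⟩ := exists_isometry hq hQ' hf hsame
  let t : (ι → F) ≃ₗ[F] (ι → F) := g * e * g⁻¹
  have hgg : ∀ v, g⁻¹ (g v) = v := fun v => g.symm_apply_apply v
  have hgg' : ∀ v, g (g⁻¹ v) = v := fun v => g.apply_symm_apply v
  have htQ : ∀ v, Q (t v) = Q v := fun v => by
    simp only [t, LinearEquiv.mul_apply]
    rw [hg, hinv, ← hg, hgg']
  have htfix : ∀ v, t v = v → v = 0 := fun v hv => by
    have h : g⁻¹ (t v) = g⁻¹ v := congrArg _ hv
    simp only [t, LinearEquiv.mul_apply, hgg] at h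
    rw [← hgg' v, hefix _ h, map_zero]
  have htr : t ^ r = 1 := by
    simp only [t, conj_pow, her, mul_one, mul_inv_cancel]
  let x : GL ι F := (Forms.glEquiv ι F).symm t
  have hxv : ∀ v, (x : Matrix ι ι F) *ᵥ v = t v := fun v => Forms.glEquiv_symm_mulVec t v
  have hxr : x ^ r = 1 := by rw [← map_pow, htr, map_one]
  have hxO : x ∈ Cfsg.isometryGroup F ⇑Q := fun u v => by
    show Q ((x : Matrix ι ι F) *ᵥ u) = Q u
    rw [hxv, htQ]
  refine ⟨x, ?_, hxr, fun z hz => ?_, fun W hW hmap => ?_⟩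
  · refine ⟨⟨x, hxO⟩, ?_, rfl⟩
    have hidx := Forms.index_Omega_char_two hQ (Or.inr (by omega)) (by omega)
    obtain ⟨k, hk⟩ := hrp.odd_of_ne_two hr
    have h : (⟨x, hxO⟩ : Cfsg.isometryGroup F ⇑Q) = (⟨x, hxO⟩ ^ (k + 1)) ^ 2 := by
      rw [← pow_mul, show (k + 1) * 2 = r + 1 by omega, pow_succ]
      apply Subtype.ext
      simp [hxr]
    show (⟨x, hxO⟩ : Cfsg.isometryGroup F ⇑Q) ∈ Cfsg.Omega F ⇑Q
    rw [h]
    exact Subgroup.sq_mem_of_index_two hidx _
  · -- a scalar would fix all vectors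
    obtain ⟨v, hv⟩ : ∃ v, Q v ≠ 0 := Forms.exists_nonsingular hQ (by omega)
    have h := htQ v
    rw [← hxv, hz, Matrix.smul_mulVec, Matrix.one_mulVec, hq.smul] at h
    have hz2 : z ^ 2 = 1 := (mul_eq_right₀ hv).1 h
    have hz1 : z = 1 := CharTwo.sq_inj.1 (by rw [hz2, one_pow])
    refine hv ?_
    rw [htfix v (by rw [← hxv, hz, hz1, one_smul, Matrix.one_mulVec]), hq.zero]
  · obtain ⟨hW1, v, hvW, hv⟩ := hW
    have hv0 : v ≠ 0 := fun h => hv (by rw [h, hq.zero])
    have h : t v ∈ W := by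
      rw [← hxv, ← Matrix.toLin'_apply]
      exact hmap ⟨v, hvW, rfl⟩
    obtain ⟨c, hc⟩ := (finrank_eq_one_iff_of_nonzero' (⟨v, hvW⟩ : W) (fun e => hv0 (congrArg Subtype.val e))).1 hW1 ⟨t v, h⟩
    have hc' : c • v = t v := congrArg Subtype.val hc
    have hQv := htQ v
    rw [← hc', hq.smul] at hQv
    have hc1 : c = 1 := CharTwo.sq_inj.1 (by rw [(mul_eq_right₀ hv).1 hQv, one_pow])
    rw [hc1, one_smul] at hc'
    exact hv0 (htfix v hc'.symm)

/-- involutions fix nonsingular points outside the exceptional case -/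
theorem involution_fixes_point {Q : QuadraticForm F (ι → F)} (hQ : (QuadraticMap.polarBilin Q).Nondegenerate)
    {d : ℕ} (hι : Fintype.card ι = d + d) (hgood : sgnSum ⇑Q < 0 ∨ Odd d) {x : GL ι F}
    (hx : x ∈ Cfsg.Geo.omegaGL ⇑Q) {z : F} (hz : ((x ^ 2 : GL ι F) : Matrix ι ι F) = z • (1 : Matrix ι ι F)) :
    ∃ W : Submodule F (ι → F), (Module.finrank F W = 1 ∧ ∃ v ∈ W, Q v ≠ 0) ∧
      W.map (Matrix.toLin' (x : Matrix ι ι F)) ≤ W := by
  classical
  obtain ⟨⟨y, hy⟩, -, rfl⟩ := hx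
  show ∃ W : Submodule F (ι → F), _ ∧ W.map (Matrix.toLin' (y : Matrix ι ι F)) ≤ W
  change ((y ^ 2 : GL ι F) : Matrix ι ι F) = z • (1 : Matrix ι ι F) at hz
  set f := QuadraticMap.polarBilin Q
  have hq : QF f ⇑Q := qf_of_quadraticForm Q
  have hf : ∀ v, (∀ u, f u v = 0) → v = 0 := fun v hv => hQ.2 v hv
  have hfin : Module.finrank F (ι → F) = d + d := by rw [Module.finrank_pi, hι]
  let e := Forms.glEquiv ι F y
  have hev : ∀ v, e v = (y : Matrix ι ι F) *ᵥ v := fun v => Forms.glEquiv_apply y v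
  have hinv : ∀ v, Q (e v) = Q v := fun v => by rw [hev]; exact hy v v
  by_contra hno
  push Not at hno
  have hfixsing : ∀ v, e v = v → Q v = 0 := by
    intro v hv
    by_contra hne
    refine hno (F ∙ v) ⟨finrank_span_singleton (fun h => hne (by rw [h, hq.zero])), v,
      Submodule.mem_span_singleton_self _, hne⟩ ?_
    rw [Submodule.map_span, Set.image_singleton, Matrix.toLin'_apply, ← hev, hv]
  have he2 : ∀ v, e (e v) = v := by
    intro v
    have hz1 : z = 1 := by
      by_contra hne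
      obtain ⟨w, hw⟩ : ∃ w, Q w ≠ 0 := by
        by_contra h
        push Not at h
        have hw0 : ∀ a b : ι → F, f a b = 0 := fun a b => by
          have := hq.add a b
          simpa [h] using this.symm
        rcases hgood with h1 | h1
        · have : sgnSum ⇑Q = Fintype.card (ι → F) := by simp [sgnSum, h, sgn_zero]
          rw [this] at h1
          exact absurd h1 (by simp)
        · obtain ⟨k, rfl⟩ := h1
          haveI : Nonempty ι := Fintype.card_pos_iff.1 (by omega)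
          obtain ⟨i⟩ := ‹Nonempty ι›
          have := congrFun (hf (Pi.single i 1) fun u => hw0 _ _) i
          simp at this
      have h : e (e w) = z • w := by
        rw [hev, hev, Matrix.mulVec_mulVec, ← Units.val_mul, ← pow_two, hz, Matrix.smul_mulVec, Matrix.one_mulVec]
      have h2 := hinv (e w)
      rw [h, hq.smul, hinv] at h2
      exact hne (CharTwo.sq_inj.1 (by rw [(mul_eq_right₀ hw).1 h2, one_pow]))
    rw [hev, hev, Matrix.mulVec_mulVec, ← Units.val_mul, ← pow_two, hz, hz1, one_smul, Matrix.one_mulVec]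
  obtain ⟨W, hW, hWs, heven⟩ := involution_core hq hf e hinv he2 hfin hfixsing
  rcases hgood with h | h
  · have := sgnSum_of_totallySingular hq hf W hWs (by omega)
    linarith
  · exact absurd heven (Nat.not_even_iff_odd.2 h)

end Cfsg.Agent.Lib.CharTwoQuad
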