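import Mathlib
import Cfsg.Prelude.Def_GeometricClasses
import Cfsg.Agent.Lib.Forms.Parity
import Cfsg.Agent.Lib.Forms.Bridge
import Cfsg.Agent.Lib.Dickson.StdQuad

/-! Shears `(x, y) ↦ (x + S y, y)` by alternating matrices in characteristic two. -/
set_option autoImplicit false

namespace Cfsg.Agent.Lib.CharTwoQuad

open scoped Matrix
open Cfsg.Agent.Lib Matrix

variable {F : Type*} [Field F] [CharP F 2] {d : ℕ}

lemma matrix_add_self {m n : Type*} (M : Matrix m n F) : M + M = 0 := by
  ext a b
  exact CharTwo.add_self_eq_zero _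

/-- the shear by `S` -/
def shear (S : Matrix (Fin d) (Fin d) F) : GL (Fin d ⊕ Fin d) F :=
  ⟨fromBlocks 1 S 0 1, fromBlocks 1 S 0 1,
    by simp [fromBlocks_multiply, matrix_add_self, fromBlocks_one],
    by simp [fromBlocks_multiply, matrix_add_self, fromBlocks_one]⟩

lemma coe_shear (S : Matrix (Fin d) (Fin d) F) :
    (shear S : Matrix (Fin d ⊕ Fin d) (Fin d ⊕ Fin d) F) = fromBlocks 1 S 0 1 := rfl

lemma shear_add (S T : Matrix (Fin d) (Fin d) F) : shear (S + T) = shear S * shear T :=
  Units.ext (by simp [shear, fromBlocks_multiply, add_comm])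

lemma shear_zero : shear (0 : Matrix (Fin d) (Fin d) F) = 1 :=
  Units.ext (by simp [shear, fromBlocks_one])

lemma shear_sq (S : Matrix (Fin d) (Fin d) F) : shear S ^ 2 = 1 := by
  rw [pow_two, ← shear_add, matrix_add_self, shear_zero]

lemma shear_mulVec (S : Matrix (Fin d) (Fin d) F) (v : Fin d ⊕ Fin d → F) :
    (shear S : Matrix (Fin d ⊕ Fin d) (Fin d ⊕ Fin d) F) *ᵥ v =
      Sum.elim (v ∘ Sum.inl + S *ᵥ (v ∘ Sum.inr)) (v ∘ Sum.inr) := by
  rw [coe_shear, fromBlocks_mulVec]
  simp

/-- the alternating elementary matrix -/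
def altSingle (i j : Fin d) : Matrix (Fin d) (Fin d) F := single i j 1 + single j i 1

lemma dot_altSingle (i j : Fin d) (y : Fin d → F) : y ⬝ᵥ (altSingle i j *ᵥ y) = 0 := by
  simp only [altSingle, add_mulVec, dotProduct_add]
  simp [single_mulVec, dotProduct, Pi.single_apply, Function.update_apply, mul_comm (y j) (y i), CharTwo.add_self_eq_zero]

lemma shear_altSingle_mem [Finite F] (hd : 3 ≤ d) {i j : Fin d} (hij : i ≠ j) :
    shear (altSingle (F := F) i j) ∈ Cfsg.Geo.omegaGL (Cfsg.quadFormPlus d F) := by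
  classical
  obtain ⟨k, hki, hkj⟩ : ∃ k, k ≠ i ∧ k ≠ j := by
    by_contra h
    push Not at h
    have := Finset.card_le_card (show (Finset.univ : Finset (Fin d)) ⊆ {i, j} from fun k _ => by
      by_cases hk : k = i
      · simp [hk]
      · simp [h k hk])
    rw [Finset.card_univ, Fintype.card_fin, Finset.card_pair hij] at this
    omega
  let A : Matrix (Fin d) (Fin d) F := 1 + single i k 1
  have hA : A * A = 1 := by
    simp [A, add_mul, mul_add, single_mul_single_of_ne _ _ _ _ hki, matrix_add_self, add_assoc]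
  have hA' : Aᵀ * Aᵀ = 1 := by rw [← transpose_mul, hA, transpose_one]
  let D : GL (Fin d ⊕ Fin d) F := ⟨fromBlocks A 0 0 Aᵀ, fromBlocks A 0 0 Aᵀ,
    by simp [fromBlocks_multiply, hA, hA', fromBlocks_one], by simp [fromBlocks_multiply, hA, hA', fromBlocks_one]⟩
  let x : GL (Fin d ⊕ Fin d) F := D * shear (altSingle k j)
  have hxx : x ^ 2 = shear (altSingle i j) := by
    apply Units.ext
    have h : A * (A * altSingle k j) + A * altSingle k j * Aᵀ = altSingle i j := by
      rw [← mul_assoc, hA, one_mul]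
      simp only [A, altSingle, transpose_add, transpose_one, transpose_single]
      simp [add_mul, mul_add, single_mul_single_same, single_mul_single_of_ne, hki, hkj, Ne.symm hki, Ne.symm hkj, hij, Ne.symm hij]
      ext a b
      simp [Matrix.add_apply]
      ring_nf
      simp [CharTwo.two_eq_zero]
    simp [x, D, shear, pow_two, fromBlocks_multiply, hA, hA', h]
  have hmem : x ∈ Cfsg.isometryGroup F ⇑(StdForms.plusQ F d) := fun u v => by
    show StdForms.plusQ F d ((x : Matrix (Fin d ⊕ Fin d) (Fin d ⊕ Fin d) F) *ᵥ u) = StdForms.plusQ F d u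
    rw [StdForms.coe_plusQ]
    simp only [x, Units.val_mul, ← mulVec_mulVec, shear_mulVec]
    simp only [D, fromBlocks_mulVec, Sum.elim_comp_inl, Sum.elim_comp_inr, zero_mulVec, add_zero, zero_add,
      Cfsg.quadFormPlus, Sum.elim_inl, Sum.elim_inr]
    rw [show ∀ a b : Fin d → F, ∑ l, (A *ᵥ a) l * (Aᵀ *ᵥ b) l = a ⬝ᵥ b from fun a b => ?_]
    · rw [add_dotProduct, dotProduct_comm (altSingle k j *ᵥ _), dot_altSingle, add_zero]
      rfl
    · show (A *ᵥ a) ⬝ᵥ (Aᵀ *ᵥ b) = _
      rw [dotProduct_mulVec, vecMul_transpose, mulVec_mulVec, hA, one_mulVec]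
  rw [← StdForms.coe_plusQ]
  refine ⟨⟨x, hmem⟩ ^ 2, ?_, by simpa using hxx⟩
  exact Subgroup.sq_mem_of_index_two (Forms.index_Omega_char_two (StdForms.plusQ_nondegenerate d)
    (Or.inr (by simp; omega)) (by simp; omega)) _

/-- a fixed point free shear in `Ω⁺` -/
theorem exists_shear_omega [Finite F] {e : ℕ} (hd : d = e + e) :
    ∃ S : Matrix (Fin d) (Fin d) F, (∀ y, y ⬝ᵥ (S *ᵥ y) = 0) ∧ (∀ y, S *ᵥ (S *ᵥ y) = y) ∧
      (3 ≤ d → shear S ∈ Cfsg.Geo.omegaGL (Cfsg.quadFormPlus d F)) := by
  classical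
  subst hd
  let a : Fin e → Fin (e + e) := fun l => finSumFinEquiv (Sum.inl l)
  let b : Fin e → Fin (e + e) := fun l => finSumFinEquiv (Sum.inr l)
  have hab : ∀ l m, a l ≠ b m := fun l m h => by simpa [a, b] using finSumFinEquiv.injective h
  let S : Matrix (Fin (e + e)) (Fin (e + e)) F := ∑ l, altSingle (a l) (b l)
  refine ⟨S, fun y => ?_, fun y => ?_, ?_⟩
  · simp [S, sum_mulVec, dotProduct_sum, dot_altSingle]
  · have hS : ∀ y l, (S *ᵥ y) (a l) = y (b l) ∧ (S *ᵥ y) (b l) = y (a l) := by
      intro y l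
      have hainj : Function.Injective a := fun u v h => by simpa [a] using finSumFinEquiv.injective h
      have hbinj : Function.Injective b := fun u v h => by simpa [b] using finSumFinEquiv.injective h
      simp [S, sum_mulVec, altSingle, add_mulVec, single_mulVec, Finset.sum_apply, Function.update_apply, hab,
        fun u v => (hab u v).symm, hainj.eq_iff, hbinj.eq_iff]
    funext i
    obtain ⟨s, rfl⟩ := finSumFinEquiv.surjective i
    rcases s with l | l
    · exact ((hS _ l).1).trans (hS y l).2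
    · exact ((hS _ l).2).trans (hS y l).1
  · intro hd3
    show shear (∑ l, altSingle (a l) (b l)) ∈ _
    refine Finset.sum_induction _ (fun T => shear T ∈ Cfsg.Geo.omegaGL (Cfsg.quadFormPlus (e + e) F)) ?_ ?_
      fun l _ => shear_altSingle_mem hd3 (hab l l)
    · intro T U hT hU
      rw [shear_add]
      exact mul_mem hT hU
    · rw [shear_zero]
      exact one_mem _

end Cfsg.Agent.Lib.CharTwoQuad
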